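import Groth.Agent.SplitValueLib.Places

/-! Locally split values from an affine parametrisation. -/

set_option autoImplicit false
set_option backward.isDefEq.respectTransparency false
set_option backward.isDefEq.respectTransparency.types false
set_option maxHeartbeats 1000000
set_option synthInstance.maxHeartbeats 100000

universe u

namespace Groth.Agent.SplitValueLib

open NumberField IsDedekindDomain Module WithZero
open scoped TensorProduct

variable {k : Type u} [Field k] [NumberField k]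

lemma exists_small_mul (v : HeightOneSpectrum (𝓞 k)) (C δ : WithZero (Multiplicative ℤ)) (hδ : δ ≠ 0) :
    ∃ z : k, z ≠ 0 ∧ C * v.valuation k z < δ := by
  rcases eq_or_ne C 0 with rfl | hC
  · exact ⟨1, one_ne_zero, by rw [zero_mul]; exact zero_lt_iff.mpr hδ⟩
  obtain ⟨π, hπ⟩ := v.valuation_exists_uniformizer k
  have hπ0 : π ≠ 0 := fun h => by rw [h, map_zero] at hπ; exact exp_ne_zero hπ.symm
  refine ⟨π ^ ((log C - log δ).toNat + 1), pow_ne_zero _ hπ0, ?_⟩
  obtain ⟨c, rfl⟩ : ∃ c, C = exp c := ⟨log C, (exp_log hC).symm⟩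
  obtain ⟨e, rfl⟩ : ∃ e, δ = exp e := ⟨log δ, (exp_log hδ).symm⟩
  rw [log_exp, log_exp, map_pow, hπ, ← exp_nsmul, ← exp_add]
  refine exp_lt_exp.mpr ?_
  simp only [nsmul_eq_mul, Nat.cast_add, Nat.cast_one]
  omega

lemma exists_integral_mult {K : Type u} [Field K] [NumberField K] [Algebra k K] (x : K) :
    ∃ d : 𝓞 k, d ≠ 0 ∧ ∃ r : 𝓞 K, algebraMap k K (algebraMap (𝓞 k) k d) * x = (r : K) := by
  obtain ⟨⟨⟨q, hq⟩, hx⟩⟩ := (⟨IsLocalization.exist_integer_multiples_of_finite (nonZeroDivisors (𝓞 K)) (fun _ : Unit => x)⟩ :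
    Nonempty _)
  have h0 : (Ideal.span {q}).comap (algebraMap (𝓞 k) (𝓞 K)) ≠ ⊥ :=
    Ideal.comap_ne_bot_of_integral_mem (nonZeroDivisors.ne_zero hq) (Ideal.mem_span_singleton_self _)
      (Algebra.IsIntegral.isIntegral _)
  obtain ⟨d, hd, hd0⟩ := Submodule.exists_mem_ne_zero_of_ne_bot h0
  obtain ⟨s, hs⟩ := Ideal.mem_span_singleton'.mp (Ideal.mem_comap.mp hd)
  obtain ⟨e, he⟩ := hx ()
  have he' : algebraMap (𝓞 K) K q * x = algebraMap (𝓞 K) K e := (Algebra.smul_def _ _).symm.trans he.symm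
  refine ⟨d, hd0, s * e, ?_⟩
  show _ = algebraMap (𝓞 K) K (s * e)
  rw [← IsScalarTower.algebraMap_apply, IsScalarTower.algebraMap_apply (𝓞 k) (𝓞 K) K, ← hs, map_mul, map_mul, ← he', mul_assoc]

lemma isOpen_valued_ball (v : HeightOneSpectrum (𝓞 k)) (y₀ : v.adicCompletion k) {δ : WithZero (Multiplicative ℤ)}
    (hδ : δ ≠ 0) : IsOpen {y : v.adicCompletion k | Valued.v (y - y₀) < δ} := by
  obtain ⟨p, hp⟩ := HeightOneSpectrum.valuedAdicCompletion_surjective k v δ
  have hp0 : Valued.v.restrict p ≠ 0 := (Valuation.ne_zero_iff _).mpr fun h => hδ (by rw [← hp, h, map_zero])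
  refine isOpen_iff_mem_nhds.mpr fun y hy => Valued.mem_nhds.mpr ⟨Units.mk0 _ hp0, fun z hz => ?_⟩
  have hz' := ((Valuation.restrict_lt_iff _).mp hz).trans_eq hp
  show Valued.v (z - y₀) < δ
  rw [show z - y₀ = (z - y) + (y - y₀) by ring]
  exact Valuation.map_add_lt _ hz' hy

lemma exists_valued_ball (v : HeightOneSpectrum (𝓞 k)) {U : Set (v.adicCompletion k)} (hU : IsOpen U)
    {y : v.adicCompletion k} (hy : y ∈ U) :
    ∃ δ : WithZero (Multiplicative ℤ), δ ≠ 0 ∧ ∀ z, Valued.v (z - y) < δ → z ∈ U := by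
  obtain ⟨γ, hγ⟩ := Valued.mem_nhds.mp (hU.mem_nhds hy)
  refine ⟨MonoidWithZeroHom.ValueGroup₀.embedding γ.1, by simpa using γ.ne_zero, fun z hz => hγ ?_⟩
  rw [Set.mem_ofPred_eq, Valuation.restrict_lt_iff_lt_embedding]
  exact hz

lemma finite_over (K : Type u) [Field K] [NumberField K] [Algebra k K] (v : HeightOneSpectrum (𝓞 k)) :
    {W : HeightOneSpectrum (𝓞 K) | W.asIdeal.LiesOver v.asIdeal}.Finite := by
  refine (Ideal.finite_factors (I := v.asIdeal.map (algebraMap (𝓞 k) (𝓞 K)))
    (Ideal.map_ne_bot_of_ne_bot v.ne_bot)).subset fun W hW => ?_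
  haveI : W.asIdeal.LiesOver v.asIdeal := hW
  exact Ideal.dvd_iff_le.mpr (Ideal.map_le_iff_le_comap.mpr (Ideal.over_def W.asIdeal v.asIdeal).le)

open scoped NumberField.LiesOver in
theorem core (n : ℕ)
    (kf : Fin n → Type u) [∀ i, Field (kf i)] [∀ i, NumberField (kf i)] [∀ i, Algebra k (kf i)]
    (Lf : Fin n → Type u) [∀ i, Field (Lf i)] [∀ i, NumberField (Lf i)] [∀ i, Algebra (kf i) (Lf i)]
    [∀ i, Algebra k (Lf i)] [∀ i, IsScalarTower k (kf i) (Lf i)]
    (a b : (i : Fin n) → kf i) (hb : ∀ i, b i ≠ 0)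
    (f g : (i : Fin n) → kf i →ₗ[k] k) (c c' : k)
    (hI1 : ∀ (A : (i : Fin n) → kf i) i,
      algebraMap k (kf i) (∑ j, f j (A j) + c) - a i * algebraMap k (kf i) (∑ j, g j (A j) + c') = A i / b i)
    (hI2 : ∀ t : k, ∑ j, f j (b j * (algebraMap k (kf j) t - a j)) + c = t ∧
      ∑ j, g j (b j * (algebraMap k (kf j) t - a j)) + c' = 1)
    (Sf : Finset (HeightOneSpectrum (𝓞 k))) (Si : Finset (InfinitePlace k))
    (hSb : ∀ i, ∀ W : HeightOneSpectrum (𝓞 (kf i)),
      W.valuation (kf i) (b i) ≠ 1 → ∃ v ∈ Sf, W.asIdeal.LiesOver v.asIdeal)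
    (hSram : ∀ i, ∀ Q : Ideal (𝓞 (Lf i)), Q.IsPrime → Q ≠ ⊥ →
      Q.ramificationIdx (𝓞 (kf i)) ≠ 1 → ∃ v ∈ Sf, Q.LiesOver v.asIdeal)
    (tf : (v : HeightOneSpectrum (𝓞 k)) → v.adicCompletion k) (ti : (w : InfinitePlace k) → w.Completion)
    (htf : ∀ i, ∀ v ∈ Sf,
      letI := (Algebra.TensorProduct.map (AlgHom.id k (v.adicCompletion k))
        (IsScalarTower.toAlgHom k (kf i) (Lf i))).toRingHom.toAlgebra
      ∃ x : (v.adicCompletion k) ⊗[k] Lf i, IsUnit x ∧
        Algebra.norm ((v.adicCompletion k) ⊗[k] kf i) x =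
          (1 : v.adicCompletion k) ⊗ₜ[k] b i * (tf v ⊗ₜ[k] (1 : kf i) - (1 : v.adicCompletion k) ⊗ₜ[k] a i))
    (hti : ∀ i, ∀ w ∈ Si,
      letI := (Algebra.TensorProduct.map (AlgHom.id k w.Completion)
        (IsScalarTower.toAlgHom k (kf i) (Lf i))).toRingHom.toAlgebra
      ∃ x : w.Completion ⊗[k] Lf i, IsUnit x ∧
        Algebra.norm (w.Completion ⊗[k] kf i) x =
          (1 : w.Completion) ⊗ₜ[k] b i * (ti w ⊗ₜ[k] (1 : kf i) - (1 : w.Completion) ⊗ₜ[k] a i))
    (Uf : (v : HeightOneSpectrum (𝓞 k)) → Set (v.adicCompletion k))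
    (hUf : ∀ v ∈ Sf, IsOpen (Uf v) ∧ tf v ∈ Uf v)
    (Ui : (w : InfinitePlace k) → Set w.Completion)
    (hUi : ∀ w ∈ Si, IsOpen (Ui w) ∧ ti w ∈ Ui w) :
    ∃ t₀ : k, (∀ v ∈ Sf, algebraMap k (v.adicCompletion k) t₀ ∈ Uf v) ∧
      (∀ w ∈ Si, algebraMap k w.Completion t₀ ∈ Ui w) ∧
      ∀ i, ∀ W : HeightOneSpectrum (𝓞 (kf i)),
        W.valuation (kf i) (algebraMap k (kf i) t₀ - a i) < 1 →
          (∃ v ∈ Sf, W.asIdeal.LiesOver v.asIdeal) ∨ Nonempty (Lf i →ₐ[kf i] W.adicCompletion (kf i)) := by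
  classical
  haveI : ∀ i, FiniteDimensional k (kf i) := fun i => Module.Finite.of_restrictScalars_finite ℚ k (kf i)
  haveI : ∀ i, FiniteDimensional (kf i) (Lf i) := fun i => Module.Finite.of_restrictScalars_finite ℚ (kf i) (Lf i)
  haveI : ∀ i, FiniteDimensional k (Lf i) := fun i => Module.Finite.of_restrictScalars_finite ℚ k (Lf i)
  haveI hst : ∀ i (w' : InfinitePlace (kf i)), IsScalarTower k (kf i) w'.Completion := fun i w' =>
    .of_algebraMap_eq fun x => InfinitePlace.Completion.ext (by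
      rw [InfinitePlace.Completion.algebraMap_toCompletion, InfinitePlace.Completion.algebraMap_toCompletion,
        IsScalarTower.algebraMap_apply k (kf i) w'.1.Completion])
  -- the auxiliary places
  choose mK eK heK using fun i => Module.Finite.exists_fin (R := 𝓞 k) (M := 𝓞 (kf i))
  let P : Finset k := ((insert c' (Finset.univ.biUnion fun i => Finset.univ.image fun j => g i ((eK i j : 𝓞 (kf i)) : kf i))).filter (· ≠ 0))
  let Bad : Set (HeightOneSpectrum (𝓞 k)) := ⋃ p ∈ P, {v | v ∉ Sf ∧ v.valuation k p ≠ 1}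
  have hBad : Bad.Finite := P.finite_toSet.biUnion fun p hp =>
    Groth.Agent.NFApproxLib.finite_ne_one Sf (Finset.mem_filter.mp hp).2
  haveI : Infinite (HeightOneSpectrum (𝓞 k)) := by
    refine Infinite.of_not_fintype fun hfin => ?_
    obtain ⟨v, hv, -⟩ := Groth.Agent.NFApproxLib.exists_degree_one k (Finset.univ : Finset (HeightOneSpectrum (𝓞 k)))
    exact hv (Finset.mem_univ v)
  obtain ⟨v₁, hv₁⟩ := Infinite.exists_notMem_finset Sf
  let T : Finset (HeightOneSpectrum (𝓞 k)) := insert v₁ hBad.toFinset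
  have hT : ∀ v ∈ T, v ∉ Sf := by
    intro v hv
    rcases Finset.mem_insert.mp hv with rfl | hv
    · exact hv₁
    · obtain ⟨p, -, h, -⟩ := Set.mem_iUnion₂.mp ((Set.Finite.mem_toFinset _).mp hv)
      exact h
  let S' := Sf ∪ T
  -- a totally split place
  let Ω := AlgebraicClosure k
  let j : ∀ i, Lf i →ₐ[k] Ω := fun i => IsAlgClosed.lift
  let E : IntermediateField k Ω := ⨆ i, (j i).fieldRange
  haveI : ∀ i, FiniteDimensional k (j i).fieldRange := fun i =>
    (AlgEquiv.ofInjectiveField (j i)).toLinearEquiv.finiteDimensional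
  haveI : FiniteDimensional k E := IntermediateField.finiteDimensional_iSup_of_finite
  let M : IntermediateField k Ω := IntermediateField.normalClosure k E Ω
  obtain ⟨v₀, hv₀, ⟨φ⟩⟩ := Groth.Agent.NFApproxLib.exists_degree_one M S'
  have hsplit : ∀ i, ∀ W : HeightOneSpectrum (𝓞 (kf i)), W.asIdeal.LiesOver v₀.asIdeal →
      Nonempty (Lf i →ₐ[kf i] W.adicCompletion (kf i)) := fun i W hW =>
    split_of_embedding M ((j i).codRestrict M.toSubalgebra fun x =>
      IntermediateField.le_normalClosure E (le_iSup (fun i => (j i).fieldRange) i ⟨x, rfl⟩)) v₀ φ W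
  -- targets at the auxiliary places
  choose d hd0 hd using fun i => exists_integral_mult (k := k) (a i)
  let dd : 𝓞 k := ∏ i, d i
  have hdd : dd ≠ 0 := Finset.prod_ne_zero_iff.mpr fun i _ => hd0 i
  choose π hπ using fun v : HeightOneSpectrum (𝓞 k) => v.intValuation_exists_uniformizer
  have hπ0 : ∀ v, π v ≠ 0 := fun v h => by
    have := hπ v
    rw [h, map_zero] at this
    exact exp_ne_zero this.symm
  let D : ℕ := ∏ i, Module.finrank (kf i) (Lf i)
  have hD : 0 < D := Finset.prod_pos fun i _ => Module.finrank_pos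
  let s : HeightOneSpectrum (𝓞 k) → k := fun v => (algebraMap (𝓞 k) k (π v * dd))⁻¹
  let tt : HeightOneSpectrum (𝓞 k) → k := fun v => s v ^ D
  have hs0 : ∀ v, s v ≠ 0 := fun v => inv_ne_zero ((map_ne_zero_iff _ (IsFractionRing.injective (𝓞 k) k)).mpr
    (mul_ne_zero (hπ0 v) hdd))
  have htt : ∀ v : HeightOneSpectrum (𝓞 k), 1 < v.valuation k (tt v) := fun v => by
    simp only [tt, s, map_pow, map_inv₀, HeightOneSpectrum.valuation_of_algebraMap, map_mul]
    refine one_lt_pow₀ ((one_lt_inv₀ (zero_lt_iff.mpr ?_)).mpr ?_) hD.ne'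
    · exact mul_ne_zero (v.intValuation_ne_zero _ (hπ0 v)) (v.intValuation_ne_zero _ hdd)
    · exact mul_lt_one_of_nonneg_of_lt_one_left zero_le
        ((v.intValuation_lt_one_iff_mem _).mpr ((v.intValuation_le_pow_iff_mem (π v) 1).mp
          (by rw [hπ v]; rfl) |> fun h => by rwa [pow_one] at h)) (v.intValuation_le_one dd)
  have hsmallA : ∀ i v (W : HeightOneSpectrum (𝓞 (kf i))), W.asIdeal.LiesOver v.asIdeal →
      W.valuation (kf i) (a i / algebraMap k (kf i) (tt v)) < 1 := by
    intro i v W hW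
    have hπW : W.valuation (kf i) (algebraMap k (kf i) (algebraMap (𝓞 k) k (π v))) < 1 := by
      rw [← HeightOneSpectrum.valuation_liesOver (kf i) v W, HeightOneSpectrum.valuation_of_algebraMap]
      refine pow_lt_one₀ zero_le ?_ (Ideal.IsDedekindDomain.ramificationIdx'_ne_zero_of_liesOver W.asIdeal v.ne_bot)
      rw [hπ v]; exact exp_lt_exp.mpr (by norm_num) |>.trans_eq exp_zero
    have hint : ∀ x : 𝓞 k, W.valuation (kf i) (algebraMap k (kf i) (algebraMap (𝓞 k) k x)) ≤ 1 := fun x => by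
      rw [← IsScalarTower.algebraMap_apply, IsScalarTower.algebraMap_apply (𝓞 k) (𝓞 (kf i)) (kf i)]
      exact W.valuation_le_one _
    obtain ⟨r, hr⟩ := hd i
    have hsp : algebraMap k (kf i) (algebraMap (𝓞 k) k (π v * dd)) * a i = algebraMap k (kf i) (algebraMap (𝓞 k) k (π v)) *
        (algebraMap k (kf i) (algebraMap (𝓞 k) k (∏ j ∈ Finset.univ.erase i, d j)) * (r : kf i)) := by
      rw [← hr, show dd = d i * ∏ j ∈ Finset.univ.erase i, d j from (Finset.mul_prod_erase _ _ (Finset.mem_univ i)).symm]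
      simp only [map_mul]; ring
    have hda : W.valuation (kf i) (algebraMap k (kf i) (algebraMap (𝓞 k) k (π v * dd)) * a i) < 1 := by
      rw [hsp, map_mul, map_mul]
      exact mul_lt_one_of_nonneg_of_lt_one_left zero_le hπW (mul_le_one' (hint _) (W.valuation_le_one r))
    obtain ⟨e, he⟩ : ∃ e, D = e + 1 := ⟨D - 1, by omega⟩
    rw [show a i / algebraMap k (kf i) (tt v) = (algebraMap k (kf i) (algebraMap (𝓞 k) k (π v * dd))) ^ e *
        (algebraMap k (kf i) (algebraMap (𝓞 k) k (π v * dd)) * a i) by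
      simp only [tt, s, he, map_pow, map_inv₀, inv_pow]
      rw [div_inv_eq_mul]
      ring, map_mul, map_pow]
    exact mul_lt_one_of_nonneg_of_lt_one_right (pow_le_one₀ zero_le (hint _)) zero_le hda
  let τ : (v : HeightOneSpectrum (𝓞 k)) → v.adicCompletion k := fun v =>
    if v ∈ Sf then tf v else algebraMap k (v.adicCompletion k) (tt v)
  let U : (v : HeightOneSpectrum (𝓞 k)) → Set (v.adicCompletion k) := fun v =>
    if v ∈ Sf then Uf v else {y | Valued.v (y - algebraMap k (v.adicCompletion k) (tt v)) < 1}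
  have hU : ∀ v ∈ S', IsOpen (U v) ∧ τ v ∈ U v := by
    intro v hv
    by_cases h : v ∈ Sf
    · simp only [U, τ, if_pos h]; exact hUf v h
    · simp only [U, τ, if_neg h]
      exact ⟨isOpen_valued_ball v _ one_ne_zero, by rw [Set.mem_ofPred_eq, sub_self, map_zero]; exact one_pos⟩
  -- the local norms
  have hloc : ∀ i, ∀ W : HeightOneSpectrum (𝓞 (kf i)), W.under (𝓞 k) ∈ S' →
      haveI : W.asIdeal.LiesOver (W.under (𝓞 k)).asIdeal := ⟨rfl⟩
      algebraMap (kf i) _ (b i) * (complMap (W.under (𝓞 k)) W (τ (W.under (𝓞 k))) - algebraMap (kf i) (W.adicCompletion (kf i)) (a i)) ≠ 0 ∧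
        ∃ x : (W.adicCompletion (kf i)) ⊗[kf i] Lf i, Algebra.norm (W.adicCompletion (kf i)) x =
          algebraMap (kf i) _ (b i) * (complMap (W.under (𝓞 k)) W (τ (W.under (𝓞 k))) - algebraMap (kf i) (W.adicCompletion (kf i)) (a i)) := by
    intro i W hWS
    haveI hWv : W.asIdeal.LiesOver (W.under (𝓞 k)).asIdeal := ⟨rfl⟩
    set v := W.under (𝓞 k) with hv
    letI := (Algebra.TensorProduct.map (AlgHom.id k (v.adicCompletion k))
      (IsScalarTower.toAlgHom k (kf i) (Lf i))).toRingHom.toAlgebra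
    let p := Algebra.TensorProduct.lift (complHom v W) (IsScalarTower.toAlgHom k (kf i) (W.adicCompletion (kf i)))
      (fun _ _ => Commute.all _ _)
    by_cases hvS : v ∈ Sf
    · obtain ⟨x, hx, hNx⟩ := htf i v hvS
      have hval : p (Algebra.norm ((v.adicCompletion k) ⊗[k] kf i) x) =
          algebraMap (kf i) _ (b i) * (complMap v W (τ v) - algebraMap (kf i) (W.adicCompletion (kf i)) (a i)) := by
        rw [hNx]
        simp [p, τ, hvS, complHom]
      refine ⟨fun h0 => ?_, ?_⟩
      · have := ((hx.map (Algebra.norm ((v.adicCompletion k) ⊗[k] kf i))).map p)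
        rw [hval, h0] at this
        exact not_isUnit_zero this
      · obtain ⟨x', hx'⟩ := norm_transfer (K := kf i) (complHom v W) x
        exact ⟨x', hx'.trans hval⟩
    · have htW : algebraMap k (kf i) (tt v) ≠ 0 := (map_ne_zero _).mpr (pow_ne_zero _ (hs0 v))
      have hu : ∀ W' : HeightOneSpectrum (𝓞 (kf i)), W'.asIdeal.LiesOver v.asIdeal →
          W'.valuation (kf i) (b i * (1 - a i / algebraMap k (kf i) (tt v))) = 1 := by
        intro W' hW'
        have h1 : W'.valuation (kf i) (b i) = 1 := by_contra fun h => by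
          obtain ⟨v', hv', hW''⟩ := hSb i W' h
          exact hvS ((HeightOneSpectrum.ext (hW''.over.trans hW'.over.symm) : v' = v) ▸ hv')
        rw [map_mul, h1, one_mul, Valuation.map_sub_eq_of_lt_left, map_one]
        rw [map_one]; exact hsmallA i v W' hW'
      obtain ⟨x, hx, hNx⟩ := Groth.Agent.UnitNormLib.exists_norm_eq v (K := kf i) (L := Lf i) _ hu fun Q hQ hQ0 hQv =>
        by_contra fun h => by
          obtain ⟨v', hv', hQv'⟩ := hSram i Q hQ hQ0 h
          exact hvS ((HeightOneSpectrum.ext (hQv'.over.trans hQv.over.symm) : v' = v) ▸ hv')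
      obtain ⟨x', hx'⟩ := norm_transfer (K := kf i) (complHom v W) x
      rw [hNx] at hx'
      have hval : algebraMap (kf i) _ (b i) * (complMap v W (τ v) - algebraMap (kf i) (W.adicCompletion (kf i)) (a i)) =
          algebraMap (kf i) (W.adicCompletion (kf i)) (b i * (1 - a i / algebraMap k (kf i) (tt v))) *
            algebraMap (kf i) (W.adicCompletion (kf i)) (algebraMap k (kf i) (tt v)) := by
        simp only [τ, if_neg hvS, complMap_algebraMap]
        rw [← map_sub, ← map_mul, ← map_mul]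
        congr 1
        field_simp
      refine ⟨?_, x' * algebraMap (W.adicCompletion (kf i)) _
        (algebraMap (kf i) (W.adicCompletion (kf i)) (algebraMap k (kf i) (s v ^ (D / Module.finrank (kf i) (Lf i))))), ?_⟩
      · rw [hval]
        refine mul_ne_zero ((map_ne_zero _).mpr fun h => ?_) ((map_ne_zero _).mpr htW)
        have := hu W hWv
        simp [h] at this
      · rw [map_mul, hx', Algebra.norm_algebraMap, Module.finrank_baseChange, hval, ← map_pow, ← map_pow, ← pow_mul,
          Nat.div_mul_cancel (Finset.dvd_prod_of_mem (fun i => Module.finrank (kf i) (Lf i)) (Finset.mem_univ i))]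
        simp [tt, D]
  -- radii
  have hfinrad : ∀ v : HeightOneSpectrum (𝓞 k), ∃ t z : k, z ≠ 0 ∧ (v ∈ S' →
      (∀ i, ∀ W : HeightOneSpectrum (𝓞 (kf i)), ∀ _ : W.asIdeal.LiesOver v.asIdeal,
        Valued.v (algebraMap (kf i) _ (b i) * (complMap v W (τ v) - algebraMap (kf i) (W.adicCompletion (kf i)) (a i)) -
          algebraMap (kf i) (W.adicCompletion (kf i)) (b i * (algebraMap k (kf i) t - a i))) < W.valuation (kf i) (algebraMap k (kf i) z)) ∧
      ∀ A : (i : Fin n) → kf i, (∀ i, ∀ W : HeightOneSpectrum (𝓞 (kf i)), W.asIdeal.LiesOver v.asIdeal →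
        W.valuation (kf i) (A i - b i * (algebraMap k (kf i) t - a i)) < W.valuation (kf i) (algebraMap k (kf i) z)) →
        (∑ j, g j (A j) + c') ≠ 0 ∧
          algebraMap k (v.adicCompletion k) ((∑ j, f j (A j) + c) / (∑ j, g j (A j) + c')) ∈ U v) := by
    intro v
    by_cases hv : v ∈ S'; swap
    · exact ⟨0, 1, one_ne_zero, fun h => absurd h hv⟩
    let Kv := v.adicCompletion k
    let V : Set (Kv × Kv) := {q | q.2 ≠ 0} ∩ (fun q => q.1 / q.2) ⁻¹' U v
    have hV : IsOpen V := (ContinuousOn.div continuousOn_fst continuousOn_snd fun q hq => hq).isOpen_inter_preimage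
      (isOpen_compl_singleton.preimage continuous_snd) (hU v hv).1
    obtain ⟨U1, U2, hU1, hU2, h1, h2, hprod⟩ := isOpen_prod_iff.mp hV (τ v) 1
      ⟨one_ne_zero, by show τ v / 1 ∈ U v; rw [div_one]; exact (hU v hv).2⟩
    obtain ⟨δ1, hδ1, hd1⟩ := exists_valued_ball v hU1 h1
    obtain ⟨δ2, hδ2, hd2⟩ := exists_valued_ball v hU2 h2
    choose Cf hCf using fun i => exists_bound_finite (f i) v
    choose Cg hCg using fun i => exists_bound_finite (g i) v
    let C := Finset.univ.sup fun i => max (Cf i) (Cg i)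
    obtain ⟨z, hz, hzC⟩ := exists_small_mul v C (min δ1 δ2) (by
      rcases min_choice δ1 δ2 with h | h <;> rw [h] <;> assumption)
    let O : Set Kv := {y | Valued.v (y - τ v) < δ1} ∩ ⋂ i, ⋂ W ∈ (finite_over (kf i) v).toFinset,
      {y | ∀ h : W.asIdeal.LiesOver v.asIdeal,
        Valued.v (algebraMap (kf i) _ (b i) * (complMap v W (τ v) - complMap v W y)) < W.valuation (kf i) (algebraMap k (kf i) z)}
    have hO : IsOpen O := by
      refine (isOpen_valued_ball v _ hδ1).inter (isOpen_iInter_of_finite fun i => isOpen_biInter_finset fun W hW => ?_)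
      have hW' : W.asIdeal.LiesOver v.asIdeal := (finite_over (kf i) v).mem_toFinset.mp hW
      have hc : Continuous fun y => algebraMap (kf i) _ (b i) * (complMap v W (τ v) - complMap v W y) :=
        continuous_const.mul (continuous_const.sub (continuous_complMap v W))
      have hz' : W.valuation (kf i) (algebraMap k (kf i) z) ≠ 0 := (Valuation.ne_zero_iff _).mpr ((map_ne_zero _).mpr hz)
      convert (isOpen_valued_ball W 0 hz').preimage hc using 1
      ext y
      simp only [Set.mem_preimage, Set.mem_ofPred_eq, sub_zero]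
      exact ⟨fun h => h hW', fun h _ => h⟩
    have hτO : τ v ∈ O := by
      refine ⟨by rw [Set.mem_ofPred_eq, sub_self, map_zero]; exact zero_lt_iff.mpr hδ1, Set.mem_iInter₂.mpr ?_⟩
      intro i W
      simp only [Set.mem_iInter]
      intro hW h
      rw [sub_self, mul_zero, map_zero]
      exact zero_lt_iff.mpr ((Valuation.ne_zero_iff _).mpr ((map_ne_zero _).mpr hz))
    obtain ⟨t, ht1, ht2⟩ := (HeightOneSpectrum.denseRange_algebraMap (K := k) v).exists_mem_open hO ⟨_, hτO⟩
    refine ⟨t, z, hz, fun _ => ⟨fun i W hW => ?_, fun A hA => ?_⟩⟩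
    · have := Set.mem_iInter.mp ht2 i
      have h := Set.mem_iInter₂.mp this W ((finite_over (kf i) v).mem_toFinset.mpr hW) hW
      rw [complMap_algebraMap] at h
      convert h using 2
      simp only [map_sub, map_mul]
      ring
    · have hsum : ∀ (F : (i : Fin n) → kf i →ₗ[k] k), (∀ i x z', z' ≠ 0 →
          (∀ W : HeightOneSpectrum (𝓞 (kf i)), W.asIdeal.LiesOver v.asIdeal → W.valuation (kf i) x ≤ W.valuation (kf i) (algebraMap k (kf i) z')) →
          v.valuation k (F i x) ≤ C * v.valuation k z') →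
          v.valuation k (∑ j, F j (A j - b j * (algebraMap k (kf j) t - a j))) < min δ1 δ2 := fun F hF =>
        lt_of_le_of_lt (Valuation.map_sum_le _ fun i _ => hF i _ z hz fun W hW => (hA i W hW).le) hzC
      have hf := hsum f fun i x z' hz' h => (hCf i x z' hz' h).trans (mul_le_mul_left
        ((le_max_left _ _).trans (Finset.le_sup (f := fun i => max (Cf i) (Cg i)) (Finset.mem_univ i))) _)
      have hg := hsum g fun i x z' hz' h => (hCg i x z' hz' h).trans (mul_le_mul_left
        ((le_max_right _ _).trans (Finset.le_sup (f := fun i => max (Cf i) (Cg i)) (Finset.mem_univ i))) _)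
      rw [show ∑ j, f j (A j - b j * (algebraMap k (kf j) t - a j)) = (∑ j, f j (A j) + c) - t by
        conv_rhs => rw [← (hI2 t).1]
        simp only [map_sub, Finset.sum_sub_distrib]; ring, ← Groth.Agent.UnitNormLib.valued_algebraMap, map_sub] at hf
      rw [show ∑ j, g j (A j - b j * (algebraMap k (kf j) t - a j)) = (∑ j, g j (A j) + c') - 1 by
        conv_rhs => rw [← (hI2 t).2]
        simp only [map_sub, Finset.sum_sub_distrib]; ring, ← Groth.Agent.UnitNormLib.valued_algebraMap, map_sub, map_one] at hg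
      have hmem : (algebraMap k Kv (∑ j, f j (A j) + c), algebraMap k Kv (∑ j, g j (A j) + c')) ∈ V := by
        refine hprod ⟨hd1 _ ?_, hd2 _ (hg.trans_le (min_le_right _ _))⟩
        rw [show algebraMap k Kv (∑ j, f j (A j) + c) - τ v =
          (algebraMap k Kv (∑ j, f j (A j) + c) - algebraMap k Kv t) + (algebraMap k Kv t - τ v) by ring]
        exact Valuation.map_add_lt _ (hf.trans_le (min_le_left _ _)) ht1
      refine ⟨fun h => hmem.1 (by show algebraMap k Kv _ = 0; rw [h, map_zero]), ?_⟩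
      rw [map_div₀]
      exact hmem.2
  choose ts zs hzs hrad using hfinrad
  -- the infinite radii
  have hinf : ∀ w : InfinitePlace k, ∃ (t : k) (δ : ℝ), 0 < δ ∧ (w ∈ Si →
      (∀ i, ∀ w' : InfinitePlace (kf i), ∀ _ : w'.LiesOver w,
        ‖algebraMap (kf i) w'.Completion (b i) * (algebraMap w.Completion w'.Completion (ti w) - algebraMap (kf i) w'.Completion (a i)) -
          algebraMap (kf i) w'.Completion (b i * (algebraMap k (kf i) t - a i))‖ < δ) ∧
      ∀ A : (i : Fin n) → kf i, (∀ i, ∀ w' : InfinitePlace (kf i), w'.comap (algebraMap k (kf i)) = w →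
        w' (A i - b i * (algebraMap k (kf i) t - a i)) < δ) →
        algebraMap k w.Completion ((∑ j, f j (A j) + c) / (∑ j, g j (A j) + c')) ∈ Ui w) := by
    intro w
    by_cases hw : w ∈ Si; swap
    · exact ⟨0, 1, one_pos, fun h => absurd h hw⟩
    let Kw := w.Completion
    let V : Set (Kw × Kw) := {q | q.2 ≠ 0} ∩ (fun q => q.1 / q.2) ⁻¹' Ui w
    have hV : IsOpen V := (ContinuousOn.div continuousOn_fst continuousOn_snd fun q hq => hq).isOpen_inter_preimage
      (isOpen_compl_singleton.preimage continuous_snd) (hUi w hw).1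
    obtain ⟨ε, hε, hball⟩ := Metric.isOpen_iff.mp hV (ti w, 1)
      ⟨one_ne_zero, by show ti w / 1 ∈ Ui w; rw [div_one]; exact (hUi w hw).2⟩
    choose Cf hCf0 hCf using fun i => exists_bound_infinite (f i) w
    choose Cg hCg0 hCg using fun i => exists_bound_infinite (g i) w
    let C := (∑ i, (Cf i + Cg i)) + 1
    have hC : 0 < C := add_pos_of_nonneg_of_pos (Finset.sum_nonneg fun i _ => add_nonneg (hCf0 i) (hCg0 i)) one_pos
    let δ := ε / 2 / C
    have hδ : 0 < δ := div_pos (half_pos hε) hC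
    let O : Set Kw := Metric.ball (ti w) (ε / 2) ∩ ⋂ i, ⋂ w' : InfinitePlace (kf i),
      {y | ∀ h : w'.LiesOver w,
        ‖algebraMap (kf i) w'.Completion (b i) * (algebraMap Kw w'.Completion (ti w) - algebraMap Kw w'.Completion y)‖ < δ}
    have hO : IsOpen O := by
      refine Metric.isOpen_ball.inter (isOpen_iInter_of_finite fun i => isOpen_iInter_of_finite fun w' => ?_)
      by_cases h : w'.LiesOver w
      · have hc : Continuous fun y : Kw => ‖algebraMap (kf i) w'.Completion (b i) *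
            (algebraMap Kw w'.Completion (ti w) - algebraMap Kw w'.Completion y)‖ :=
          (continuous_const.mul (continuous_const.sub NumberField.LiesOver.continuous_completionMap)).norm
        convert isOpen_lt hc (continuous_const (y := δ)) using 1
        ext y
        exact ⟨fun hy => hy h, fun hy _ => hy⟩
      · convert isOpen_univ
        exact Set.eq_univ_of_forall fun y h' => absurd h' h
    have hτO : ti w ∈ O := by
      refine ⟨Metric.mem_ball_self (half_pos hε), ?_⟩
      simp only [Set.mem_iInter]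
      intro i w' h
      rw [sub_self, mul_zero, norm_zero]
      exact hδ
    obtain ⟨t, ht1, ht2⟩ : ∃ t : k, algebraMap k Kw t ∈ O := by
      obtain ⟨x, hx⟩ := (InfinitePlace.Completion.denseRange_coe (v := w)).exists_mem_open hO ⟨_, hτO⟩
      exact ⟨WithAbs.equiv w.1 x, hx⟩
    refine ⟨t, δ, hδ, fun _ => ⟨fun i w' h => ?_, fun A hA => ?_⟩⟩
    · have h' := Set.mem_iInter.mp (Set.mem_iInter.mp ht2 i) w' h
      rw [← IsScalarTower.algebraMap_apply k Kw w'.Completion, IsScalarTower.algebraMap_apply k (kf i) w'.Completion] at h'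
      convert h' using 2
      simp only [map_sub, map_mul]
      ring
    · have hsum : ∀ (F : (i : Fin n) → kf i →ₗ[k] k) (CF : Fin n → ℝ), (∀ i, CF i ≤ Cf i + Cg i) → (∀ i (x : kf i) (d : ℝ),
          (∀ w' : InfinitePlace (kf i), w'.comap (algebraMap k (kf i)) = w → w' x ≤ d) → w (F i x) ≤ CF i * d) →
          w (∑ j, F j (A j - b j * (algebraMap k (kf j) t - a j))) < ε / 2 := by
        intro F CF hle hF
        refine lt_of_le_of_lt ?_ (show (∑ i, (Cf i + Cg i)) * δ < ε / 2 by
          calc (∑ i, (Cf i + Cg i)) * δ < C * δ := mul_lt_mul_of_pos_right (lt_add_one _) hδ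
            _ = ε / 2 := by simp only [δ]; field_simp)
        refine (w.1.sum_le _ _).trans ?_
        rw [Finset.sum_mul]
        exact Finset.sum_le_sum fun i _ => (hF i _ δ fun w' hw' => (hA i w' hw').le).trans
          (mul_le_mul_of_nonneg_right (hle i) hδ.le)
      have hnorm : ∀ x : k, ‖algebraMap k Kw x‖ = w x := fun x => InfinitePlace.Completion.norm_coe w (WithAbs.toAbs w.1 x)
      have hf := hsum f Cf (fun i => le_add_of_nonneg_right (hCg0 i)) hCf
      have hg := hsum g Cg (fun i => le_add_of_nonneg_left (hCf0 i)) hCg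
      rw [show ∑ j, f j (A j - b j * (algebraMap k (kf j) t - a j)) = (∑ j, f j (A j) + c) - t by
        conv_rhs => rw [← (hI2 t).1]
        simp only [map_sub, Finset.sum_sub_distrib]; ring, ← hnorm, map_sub] at hf
      rw [show ∑ j, g j (A j - b j * (algebraMap k (kf j) t - a j)) = (∑ j, g j (A j) + c') - 1 by
        conv_rhs => rw [← (hI2 t).2]
        simp only [map_sub, Finset.sum_sub_distrib]; ring, ← hnorm, map_sub, map_one] at hg
      rw [map_div₀]
      refine (hball (show (algebraMap k Kw (∑ j, f j (A j) + c), algebraMap k Kw (∑ j, g j (A j) + c')) ∈ Metric.ball (ti w, (1 : Kw)) ε from ?_)).2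
      rw [Metric.mem_ball, Prod.dist_eq]
      refine max_lt ?_ (by rw [dist_eq_norm]; linarith)
      calc dist (algebraMap k Kw (∑ j, f j (A j) + c)) (ti w)
          ≤ dist (algebraMap k Kw (∑ j, f j (A j) + c)) (algebraMap k Kw t) + dist (algebraMap k Kw t) (ti w) := dist_triangle _ _ _
        _ < ε / 2 + ε / 2 := add_lt_add (by rw [dist_eq_norm]; exact hf) ht1
        _ = ε := add_halves ε
  choose tw δw hδw hradw using hinf
  -- the norms near the targets
  have hex : ∀ i, ∃ A : kf i, A ≠ 0 ∧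
      (∀ v ∈ S', ∀ W : HeightOneSpectrum (𝓞 (kf i)), W.asIdeal.LiesOver v.asIdeal →
        W.valuation (kf i) (A - b i * (algebraMap k (kf i) (ts v) - a i)) < W.valuation (kf i) (algebraMap k (kf i) (zs v))) ∧
      (∀ w ∈ Si, ∀ w' : InfinitePlace (kf i), w'.comap (algebraMap k (kf i)) = w →
        w' (A - b i * (algebraMap k (kf i) (tw w) - a i)) < δw w) ∧
      (∀ W : HeightOneSpectrum (𝓞 (kf i)), W.under (𝓞 k) ∉ S' → W.under (𝓞 k) ≠ v₀ → W.valuation (kf i) A ≤ 1) ∧
      ∀ W : HeightOneSpectrum (𝓞 (kf i)), W.under (𝓞 k) ∉ S' →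
        W.valuation (kf i) A = 1 ∨ Nonempty (Lf i →ₐ[kf i] W.adicCompletion (kf i)) := by
    intro i
    haveI : ∀ W : HeightOneSpectrum (𝓞 (kf i)), W.asIdeal.LiesOver (W.under (𝓞 k)).asIdeal := fun W => ⟨rfl⟩
    have hunder : ∀ (W : HeightOneSpectrum (𝓞 (kf i))) (v : HeightOneSpectrum (𝓞 k)), W.asIdeal.LiesOver v.asIdeal →
        W.under (𝓞 k) = v := fun W v h => HeightOneSpectrum.ext h.over.symm
    have hfin : {W : HeightOneSpectrum (𝓞 (kf i)) | W.under (𝓞 k) ∈ S'}.Finite := by
      refine (S'.finite_toSet.biUnion fun v _ => finite_over (kf i) v).subset fun W hW => ?_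
      exact Set.mem_biUnion hW (inferInstance : W.asIdeal.LiesOver (W.under (𝓞 k)).asIdeal)
    obtain ⟨Q, hQ, hQo⟩ := Ideal.exists_maximal_ideal_liesOver_of_isIntegral (S := 𝓞 (kf i)) v₀.asIdeal
    let W₀ : HeightOneSpectrum (𝓞 (kf i)) := ⟨Q, hQ.isPrime, Ideal.ne_bot_of_liesOver_of_ne_bot v₀.ne_bot Q⟩
    haveI hW₀ : W₀.asIdeal.LiesOver v₀.asIdeal := hQo
    let Sw : Finset (InfinitePlace (kf i)) := Finset.univ.filter fun w' => w'.comap (algebraMap k (kf i)) ∈ Si
    haveI hwl : ∀ w' : InfinitePlace (kf i), w'.LiesOver (w'.comap (algebraMap k (kf i))) := fun w' => ⟨rfl⟩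
    obtain ⟨A, hA0, hAf, hAi, hAint, hAsplit⟩ := Groth.Agent.NFApproxLib.near_norm (L := Lf i) hfin.toFinset Sw
      (fun W => algebraMap (kf i) _ (b i) * (complMap (W.under (𝓞 k)) W (τ (W.under (𝓞 k))) - algebraMap (kf i) _ (a i)))
      (fun w' => algebraMap (kf i) _ (b i) *
        (algebraMap (w'.comap (algebraMap k (kf i))).Completion w'.Completion (ti _) - algebraMap (kf i) _ (a i)))
      (fun W hW => hloc i W (hfin.mem_toFinset.mp hW))
      (fun w' hw' => by
        have hwS : w'.comap (algebraMap k (kf i)) ∈ Si := (Finset.mem_filter.mp hw').2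
        set w := w'.comap (algebraMap k (kf i))
        letI := (Algebra.TensorProduct.map (AlgHom.id k w.Completion)
          (IsScalarTower.toAlgHom k (kf i) (Lf i))).toRingHom.toAlgebra
        let ψ : w.Completion →ₐ[k] w'.Completion := IsScalarTower.toAlgHom k w.Completion w'.Completion
        let p := Algebra.TensorProduct.lift ψ (IsScalarTower.toAlgHom k (kf i) w'.Completion) (fun _ _ => Commute.all _ _)
        obtain ⟨x, hx, hNx⟩ := hti i w hwS
        have hval : p (Algebra.norm (w.Completion ⊗[k] kf i) x) =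
            algebraMap (kf i) _ (b i) * (algebraMap w.Completion w'.Completion (ti w) - algebraMap (kf i) w'.Completion (a i)) := by
          rw [hNx]
          simp [p, ψ, -InfinitePlace.Completion.algebraMap_apply]
        refine ⟨fun h0 => ?_, ?_⟩
        · have := ((hx.map (Algebra.norm (w.Completion ⊗[k] kf i))).map p)
          rw [hval, h0] at this
          exact not_isUnit_zero this
        · obtain ⟨x', hx'⟩ := norm_transfer (K := kf i) ψ x
          exact ⟨x', hx'.trans hval⟩)
      (fun W => {y | Valued.v (y - algebraMap (kf i) _ (b i * (algebraMap k (kf i) (ts (W.under (𝓞 k))) - a i))) <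
        W.valuation (kf i) (algebraMap k (kf i) (zs (W.under (𝓞 k))))})
      (fun W hW => ⟨isOpen_valued_ball W _ ((Valuation.ne_zero_iff _).mpr ((map_ne_zero _).mpr (hzs _))),
        (hrad _ (hfin.mem_toFinset.mp hW)).1 i W inferInstance⟩)
      (fun w' => Metric.ball (algebraMap (kf i) _ (b i * (algebraMap k (kf i) (tw (w'.comap (algebraMap k (kf i)))) - a i)))
        (δw (w'.comap (algebraMap k (kf i)))))
      (fun w' hw' => ⟨Metric.isOpen_ball, by
        rw [Metric.mem_ball, dist_eq_norm]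
        exact (hradw _ (Finset.mem_filter.mp hw').2).1 i w' inferInstance⟩)
      W₀ (fun h => hv₀ ((hunder W₀ v₀ hW₀) ▸ hfin.mem_toFinset.mp h)) (hsplit i W₀ hW₀)
    refine ⟨A, hA0, fun v hv W hW => ?_, fun w hw w' hw' => ?_, fun W hW hW0 => ?_, fun W hW => ?_⟩
    · have hu := hunder W v hW
      have h : Valued.v (algebraMap (kf i) (W.adicCompletion (kf i)) A - algebraMap (kf i) _ (b i * (algebraMap k (kf i) (ts (W.under (𝓞 k))) - a i))) < _ :=
        hAf W (hfin.mem_toFinset.mpr (show W.under (𝓞 k) ∈ S' from hu.symm ▸ hv))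
      rw [hu, ← map_sub, Groth.Agent.UnitNormLib.valued_algebraMap] at h
      exact h
    · subst hw'
      have h := hAi w' (Finset.mem_filter.mpr ⟨Finset.mem_univ _, hw⟩)
      rw [Metric.mem_ball, dist_eq_norm, ← map_sub] at h
      exact (InfinitePlace.Completion.norm_coe w' (WithAbs.toAbs w'.1 _)).symm.trans_lt h
    · exact hAint W (fun h => hW (hfin.mem_toFinset.mp h)) fun h => hW0 (h ▸ hunder W₀ v₀ hW₀)
    · exact hAsplit W fun h => hW (hfin.mem_toFinset.mp h)
  choose A hA0 hAf hAi hAint hAsplit using hex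
  have hmain := fun v (hv : v ∈ S') => (hrad v hv).2 A fun i W hW => hAf i v hv W hW
  have hμ : ∑ j, g j (A j) + c' ≠ 0 := (hmain v₁ (Finset.mem_union_right _ (Finset.mem_insert_self _ _))).1
  refine ⟨(∑ j, f j (A j) + c) / (∑ j, g j (A j) + c'), fun v hv => ?_, fun w hw => ?_, fun i W hlt => ?_⟩
  · have := (hmain v (Finset.mem_union_left _ hv)).2
    simpa [U, hv] using this
  · exact (hradw w hw).2 A fun i w' hw' => hAi i w hw w' hw'
  set v := W.under (𝓞 k)
  haveI hWv : W.asIdeal.LiesOver v.asIdeal := ⟨rfl⟩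
  by_cases hvS : v ∈ Sf
  · exact Or.inl ⟨v, hvS, hWv⟩
  refine Or.inr ?_
  by_cases hv0 : v = v₀
  · exact hsplit i W (hv0 ▸ hWv)
  set μ := ∑ j, g j (A j) + c'
  set lam := ∑ j, f j (A j) + c
  have hμK : algebraMap k (kf i) μ ≠ 0 := (map_ne_zero _).mpr hμ
  by_cases hvT : v ∈ S'
  · exfalso
    have h := (hmain v hvT).2
    simp only [U, if_neg hvS, Set.mem_ofPred_eq] at h
    rw [← map_sub, Groth.Agent.UnitNormLib.valued_algebraMap] at h
    have h1 : v.valuation k (lam / μ) = v.valuation k (tt v) := by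
      rw [show lam / μ = tt v + (lam / μ - tt v) by ring]
      exact Valuation.map_add_eq_of_lt_left _ (h.trans (htt v))
    have h2 : W.valuation (kf i) (a i) < W.valuation (kf i) (algebraMap k (kf i) (tt v)) := by
      have := hsmallA i v W hWv
      rwa [map_div₀, div_lt_one₀ (zero_lt_iff.mpr ((Valuation.ne_zero_iff _).mpr
        ((map_ne_zero _).mpr (pow_ne_zero _ (hs0 v)))))] at this
    have h3 : W.valuation (kf i) (algebraMap k (kf i) (lam / μ)) = W.valuation (kf i) (algebraMap k (kf i) (tt v)) := by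
      rw [← HeightOneSpectrum.valuation_liesOver (kf i) v W, ← HeightOneSpectrum.valuation_liesOver (kf i) v W, h1]
    rw [Valuation.map_sub_eq_of_lt_left _ (h3.symm ▸ h2), h3] at hlt
    have h4 : 1 < W.valuation (kf i) (algebraMap k (kf i) (tt v)) := by
      rw [← HeightOneSpectrum.valuation_liesOver (kf i) v W]
      exact one_lt_pow₀ (htt v) (Ideal.IsDedekindDomain.ramificationIdx'_ne_zero_of_liesOver W.asIdeal v.ne_bot)
    exact lt_asymm hlt h4
  -- a good place
  have hgood : ∀ p ∈ insert c' (Finset.univ.biUnion fun i => Finset.univ.image fun j => g i ((eK i j : 𝓞 (kf i)) : kf i)),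
      v.valuation k p ≤ 1 := by
    intro p hp
    rcases eq_or_ne p 0 with rfl | hp0
    · rw [map_zero]; exact zero_le
    · refine le_of_eq (by_contra fun hne => hvT (Finset.mem_union_right _ (Finset.mem_insert_of_mem ?_)))
      rw [Set.Finite.mem_toFinset]
      exact Set.mem_biUnion (Finset.mem_filter.mpr ⟨hp, hp0⟩) ⟨hvS, hne⟩
  have hμ1 : v.valuation k μ ≤ 1 := by
    refine (Valuation.map_add _ _ _).trans (max_le (Valuation.map_sum_le _ fun j _ => ?_) (hgood c' (Finset.mem_insert_self _ _)))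
    obtain ⟨s', hs', e, he⟩ := Groth.Agent.UnitNormLib.exists_mul_mem v (A j) fun W' hW' => by
      have hu : W'.under (𝓞 k) = v := HeightOneSpectrum.ext hW'.over.symm
      exact hAint j W' (hu ▸ hvT) (hu ▸ hv0)
    obtain ⟨r, hr⟩ := (Submodule.mem_span_range_iff_exists_fun _).mp (heK j ▸ Submodule.mem_top : e ∈ _)
    have hgA : algebraMap (𝓞 k) k s' * g j (A j) = ∑ l, algebraMap (𝓞 k) k (r l) * g j ((eK j l : 𝓞 (kf j)) : kf j) := by
      have h1 : (e : kf j) = ∑ l, algebraMap (𝓞 k) k (r l) • ((eK j l : 𝓞 (kf j)) : kf j) := by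
        rw [← hr]; push_cast
        exact Finset.sum_congr rfl fun l _ => algebra_compatible_smul k (r l) ((eK j l : 𝓞 (kf j)) : kf j)
      rw [← smul_eq_mul, ← map_smul, Algebra.smul_def, ← IsScalarTower.algebraMap_apply, he, h1, map_sum]
      simp only [map_smul, smul_eq_mul]
    have h2 : v.valuation k (g j (A j)) = v.valuation k (algebraMap (𝓞 k) k s' * g j (A j)) := by
      rw [map_mul, v.valuation_eq_one_iff_notMem.mpr hs', one_mul]
    rw [h2, hgA]
    refine Valuation.map_sum_le _ fun l _ => ?_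
    rw [map_mul]
    exact mul_le_one' (v.valuation_le_one _) (hgood _ (Finset.mem_insert_of_mem
      (Finset.mem_biUnion.mpr ⟨j, Finset.mem_univ _, Finset.mem_image_of_mem _ (Finset.mem_univ l)⟩)))
  have hμW : W.valuation (kf i) (algebraMap k (kf i) μ) ≤ 1 := by
    rw [← HeightOneSpectrum.valuation_liesOver (kf i) v W]
    exact pow_le_one₀ zero_le hμ1
  have hb1 : W.valuation (kf i) (b i) = 1 := by_contra fun h => by
    obtain ⟨v', hv', hW'⟩ := hSb i W h
    exact hvS ((HeightOneSpectrum.ext (hW'.over.trans hWv.over.symm) : v' = v) ▸ hv')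
  have hfrm : algebraMap k (kf i) (lam / μ) - a i = (A i / b i) / algebraMap k (kf i) μ := by
    rw [← hI1 A i, map_div₀]
    field_simp
    ring
  rw [hfrm, map_div₀, map_div₀, hb1, div_one, div_lt_one₀ (zero_lt_iff.mpr ((Valuation.ne_zero_iff _).mpr hμK))] at hlt
  exact (hAsplit i W hvT).resolve_left (hlt.trans_le hμW).ne

end Groth.Agent.SplitValueLib
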