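import Groth.Agent.UnitNormLib.Local
import Groth.Agent.NFApproxLib.DegOne

/-! Places over a given place, local norms at these places, and totally split places. -/

set_option autoImplicit false
set_option backward.isDefEq.respectTransparency false
set_option backward.isDefEq.respectTransparency.types false

universe u

namespace Groth.Agent.SplitValueLib

open NumberField IsDedekindDomain Module
open scoped TensorProduct

section transfer

variable {k K L A E : Type u} [Field k] [Field K] [Field L] [CommRing A] [Field E]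
  [Algebra k K] [Algebra K L] [Algebra k L] [IsScalarTower k K L] [Algebra k A]
  [Algebra k E] [Algebra K E] [IsScalarTower k K E] [FiniteDimensional k K] [FiniteDimensional K L]

/-- Transfer of norms from the base change to a field. -/
theorem norm_transfer (ψ : A →ₐ[k] E) :
    letI := (Algebra.TensorProduct.map (AlgHom.id k A) (IsScalarTower.toAlgHom k K L)).toRingHom.toAlgebra
    ∀ x : A ⊗[k] L, ∃ x' : E ⊗[K] L, Algebra.norm E x' =
      Algebra.TensorProduct.lift ψ (IsScalarTower.toAlgHom k K E) (fun _ _ => Commute.all _ _)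
        (Algebra.norm (A ⊗[k] K) x) := by
  classical
  letI := (Algebra.TensorProduct.map (AlgHom.id k A) (IsScalarTower.toAlgHom k K L)).toRingHom.toAlgebra
  intro x
  have hmap : ∀ (a : A) (c : K), algebraMap (A ⊗[k] K) (A ⊗[k] L) (a ⊗ₜ[k] c) = a ⊗ₜ[k] algebraMap K L c :=
    fun a c => rfl
  haveI : IsScalarTower A (A ⊗[k] K) (A ⊗[k] L) := .of_algebraMap_eq fun a => by
    simp [Algebra.TensorProduct.algebraMap_apply, hmap]
  let f := Module.finBasis k K
  let e := Module.finBasis K L
  let Φ : (Fin (Module.finrank K L) → A ⊗[k] K) →ₗ[A ⊗[k] K] A ⊗[k] L :=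
    Fintype.linearCombination (A ⊗[k] K) fun j => (1 : A) ⊗ₜ[k] e j
  let bsrc := Pi.basis fun _ : Fin (Module.finrank K L) => Algebra.TensorProduct.basis A f
  let btgt := (Algebra.TensorProduct.basis A (f.smulTower e)).reindex ((Equiv.prodComm _ _).trans (Equiv.sigmaEquivProd _ _).symm)
  have hΦ : Φ.restrictScalars A = (bsrc.equiv btgt (Equiv.refl _)).toLinearMap := by
    refine bsrc.ext fun ⟨j, i⟩ => ?_
    rw [LinearEquiv.coe_coe, Module.Basis.equiv_apply]
    simp [Φ, bsrc, btgt, Fintype.linearCombination_apply_single, Algebra.smul_def, hmap]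
  have hbij : Function.Bijective Φ := by
    have : Function.Bijective (Φ.restrictScalars A) := hΦ ▸ (bsrc.equiv btgt (Equiv.refl _)).bijective
    exact this
  let b : Module.Basis (Fin (Module.finrank K L)) (A ⊗[k] K) (A ⊗[k] L) :=
    Module.Basis.ofEquivFun (LinearEquiv.ofBijective Φ hbij).symm
  have hb : ∀ j, b j = (1 : A) ⊗ₜ[k] e j := fun j => by
    rw [Module.Basis.coe_ofEquivFun]
    simp [Φ, Fintype.linearCombination_apply_single]
  have hrepr : ∀ (a : A) (z : L) j, b.repr (a ⊗ₜ[k] z) j = a ⊗ₜ[k] e.repr z j := by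
    intro a z j
    have h1 : a ⊗ₜ[k] z = ∑ i, (a ⊗ₜ[k] e.repr z i : A ⊗[k] K) • b i := by
      conv_lhs => rw [← e.sum_repr z, TensorProduct.tmul_sum]
      refine Finset.sum_congr rfl fun i _ => ?_
      rw [hb, Algebra.smul_def, Algebra.smul_def, hmap, Algebra.TensorProduct.tmul_mul_tmul, mul_one]
    rw [h1, b.repr_sum_self]
  let p := Algebra.TensorProduct.lift ψ (IsScalarTower.toAlgHom k K E) (fun _ _ => Commute.all _ _)
  let P : A ⊗[k] L →ₐ[k] E ⊗[K] L :=
    Algebra.TensorProduct.lift ((Algebra.TensorProduct.includeLeft : E →ₐ[k] E ⊗[K] L).comp ψ)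
      ((Algebra.TensorProduct.includeRight : L →ₐ[K] E ⊗[K] L).restrictScalars k) (fun _ _ => Commute.all _ _)
  refine ⟨P x, ?_⟩
  show Algebra.norm E (P x) = p.toRingHom (Algebra.norm (A ⊗[k] K) x)
  rw [Algebra.norm_eq_matrix_det (e.baseChange E), Algebra.norm_eq_matrix_det b, RingHom.map_det]
  congr 1
  induction x using TensorProduct.induction_on with
  | zero => simp
  | tmul a z =>
    ext i j
    have hP : P (a ⊗ₜ[k] z) = ψ a ⊗ₜ[K] z := by simp [P]
    rw [RingHom.mapMatrix_apply, Matrix.map_apply, Algebra.leftMulMatrix_eq_repr_mul, Algebra.leftMulMatrix_eq_repr_mul,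
      hb, Algebra.TensorProduct.tmul_mul_tmul, mul_one, hrepr, hP, Module.Basis.baseChange_apply,
      Algebra.TensorProduct.tmul_mul_tmul, mul_one, Module.Basis.baseChange_repr_tmul, Algebra.smul_def]
    simp [p, mul_comm]
  | add x y hx hy => rw [map_add, map_add, map_add, hx, hy, map_add]

end transfer

variable {k : Type u} [Field k] [NumberField k] {K : Type u} [Field K] [NumberField K] [Algebra k K]

open UniformSpace in
set_option maxHeartbeats 1000000 in
set_option synthInstance.maxHeartbeats 200000 in
/-- The map of completions of a place and a place over it. -/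
noncomputable def complMap (v : HeightOneSpectrum (𝓞 k)) (W : HeightOneSpectrum (𝓞 K))
    [W.asIdeal.LiesOver v.asIdeal] : v.adicCompletion k →+* W.adicCompletion K :=
  (HeightOneSpectrum.adicCompletion.equiv K W).symm.toRingHom.comp
    ((Completion.mapRingHom (algebraMap (WithVal (v.valuation k)) (WithVal (W.valuation K)))
      (HeightOneSpectrum.uniformContinuous_algebraMap_liesOver k K v W).continuous).comp
      (HeightOneSpectrum.adicCompletion.equiv k v).toRingHom)

lemma continuous_complMap (v : HeightOneSpectrum (𝓞 k)) (W : HeightOneSpectrum (𝓞 K))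
    [W.asIdeal.LiesOver v.asIdeal] : Continuous (complMap v W) :=
  (HeightOneSpectrum.adicCompletion.continuous_ofCompletion K W).comp
    (UniformSpace.Completion.continuous_map.comp (HeightOneSpectrum.adicCompletion.continuous_toCompletion k v))

set_option maxHeartbeats 1000000 in
set_option synthInstance.maxHeartbeats 200000 in
lemma complMap_algebraMap (v : HeightOneSpectrum (𝓞 k)) (W : HeightOneSpectrum (𝓞 K))
    [W.asIdeal.LiesOver v.asIdeal] (x : k) :
    complMap v W (algebraMap k (v.adicCompletion k) x) = algebraMap K (W.adicCompletion K) (algebraMap k K x) := by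
  apply HeightOneSpectrum.adicCompletion.ext
  exact UniformSpace.Completion.mapRingHom_coe
    (HeightOneSpectrum.uniformContinuous_algebraMap_liesOver k K v W).continuous _

/-- The `k`-algebra map of completions. -/
noncomputable def complHom (v : HeightOneSpectrum (𝓞 k)) (W : HeightOneSpectrum (𝓞 K))
    [W.asIdeal.LiesOver v.asIdeal] : v.adicCompletion k →ₐ[k] W.adicCompletion K :=
  { complMap v W with
    commutes' := fun x => by
      show complMap v W (algebraMap k _ x) = _
      rw [complMap_algebraMap, ← IsScalarTower.algebraMap_apply] }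

variable {L : Type u} [Field L] [Algebra K L] [Algebra k L] [IsScalarTower k K L]

/-- A place at which a normal extension has degree one splits every extension inside it. -/
theorem split_of_embedding (M : Type u) [Field M] [Algebra k M] [Normal k M] (jL : L →ₐ[k] M)
    [FiniteDimensional K L] [FiniteDimensional k K]
    (v : HeightOneSpectrum (𝓞 k)) (φ : M →ₐ[k] v.adicCompletion k) (W : HeightOneSpectrum (𝓞 K))
    [W.asIdeal.LiesOver v.asIdeal] : Nonempty (L →ₐ[K] W.adicCompletion K) := by
  let g : M →ₐ[k] W.adicCompletion K := (complHom v W).comp φ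
  let ι : K →ₐ[k] W.adicCompletion K := IsScalarTower.toAlgHom k K _
  have hsub : ∀ x : K, ι x ∈ g.fieldRange := by
    intro x
    let y : M := jL (algebraMap K L x)
    have hy : minpoly k y = minpoly k x :=
      minpoly.algHom_eq (jL.comp (IsScalarTower.toAlgHom k K L)) (jL.comp (IsScalarTower.toAlgHom k K L)).injective x
    have hsp : Polynomial.Splits ((minpoly k x).map (algebraMap k M)) := hy ▸ Normal.splits inferInstance y
    have hroot : Polynomial.aeval (ι x) (minpoly k x) = 0 := by
      rw [Polynomial.aeval_algHom_apply, minpoly.aeval, map_zero]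
    obtain ⟨z, hz⟩ : ι x ∈ Set.range g := by
      have := hsp.image_rootSet g
      have hmem : ι x ∈ (minpoly k x).rootSet (W.adicCompletion K) :=
        Polynomial.mem_rootSet.mpr ⟨minpoly.ne_zero (IsIntegral.of_finite k x), hroot⟩
      rw [← this] at hmem
      obtain ⟨z, -, hz⟩ := hmem
      exact ⟨z, hz⟩
    exact ⟨z, hz⟩
  let j' : K →ₐ[k] M := (AlgEquiv.ofInjectiveField g).symm.toAlgHom.comp (ι.codRestrict g.range hsub)
  have hj' : ∀ x, g (j' x) = algebraMap K (W.adicCompletion K) x := fun x => by
    have := (AlgEquiv.ofInjectiveField g).apply_symm_apply (ι.codRestrict g.range hsub x)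
    exact congrArg Subtype.val this
  letI : Algebra K M := j'.toRingHom.toAlgebra
  haveI : IsScalarTower k K M := .of_algebraMap_eq fun x => (j'.commutes x).symm
  obtain ⟨σ⟩ : Nonempty (L →ₐ[K] M) := IntermediateField.nonempty_algHom_of_splits fun s => by
    refine ⟨IsIntegral.of_finite K s, ?_⟩
    have h1 : Polynomial.Splits ((minpoly k s).map (algebraMap k M)) := by
      rw [← minpoly.algHom_eq jL jL.injective s]; exact Normal.splits inferInstance _
    rw [IsScalarTower.algebraMap_eq k K M, ← Polynomial.map_map] at h1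
    haveI : FiniteDimensional k L := FiniteDimensional.trans k K L
    exact h1.of_dvd (Polynomial.map_ne_zero (Polynomial.map_ne_zero (minpoly.ne_zero (IsIntegral.of_finite k s))))
      (Polynomial.map_dvd _ (minpoly.dvd_map_of_isScalarTower k K s))
  refine ⟨{ g.toRingHom.comp σ.toRingHom with commutes' := fun x => ?_ }⟩
  show g (σ (algebraMap K L x)) = _
  rw [σ.commutes]
  exact hj' x

/-- A `k`-linear form is small when the argument is small at all places over an infinite place. -/
theorem exists_bound_infinite (f : K →ₗ[k] k) (w : InfinitePlace k) :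
    ∃ C : ℝ, 0 ≤ C ∧ ∀ (x : K) (δ : ℝ), (∀ w' : InfinitePlace K, w'.comap (algebraMap k K) = w → w' x ≤ δ) →
      w (f x) ≤ C * δ := by
  classical
  haveI : FiniteDimensional k K := Module.Finite.of_restrictScalars_finite ℚ k K
  obtain ⟨c, hc⟩ : ∃ c : K, ∀ x, f x = Algebra.trace k K (c * x) := by
    obtain ⟨c, hc⟩ := ((Algebra.traceForm k K).toDual (traceForm_nondegenerate k K)).surjective f
    exact ⟨c, fun x => by rw [← hc]; rfl⟩
  letI : Algebra k ℂ := w.embedding.toAlgebra
  refine ⟨∑ σ : K →ₐ[k] ℂ, ‖σ c‖, Finset.sum_nonneg fun σ _ => norm_nonneg _, fun x δ hδ => ?_⟩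
  have h : algebraMap k ℂ (f x) = ∑ σ : K →ₐ[k] ℂ, σ (c * x) := by rw [hc, trace_eq_sum_embeddings]
  rw [← w.norm_embedding_eq, show w.embedding (f x) = algebraMap k ℂ (f x) from rfl, h, Finset.sum_mul]
  refine (norm_sum_le _ _).trans (Finset.sum_le_sum fun σ _ => ?_)
  rw [map_mul, norm_mul]
  refine mul_le_mul_of_nonneg_left ?_ (norm_nonneg _)
  have := hδ (InfinitePlace.mk σ.toRingHom) (by
    rw [InfinitePlace.comap_mk, show σ.toRingHom.comp (algebraMap k K) = w.embedding from σ.comp_algebraMap]
    exact w.mk_embedding)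
  rwa [InfinitePlace.apply] at this

/-- A `k`-linear form is small when the argument is small at all places over a finite place. -/
theorem exists_bound_finite (f : K →ₗ[k] k) (v : HeightOneSpectrum (𝓞 k)) :
    ∃ C : WithZero (Multiplicative ℤ), ∀ (x : K) (z : k), z ≠ 0 →
      (∀ W : HeightOneSpectrum (𝓞 K), W.asIdeal.LiesOver v.asIdeal → W.valuation K x ≤ W.valuation K (algebraMap k K z)) →
        v.valuation k (f x) ≤ C * v.valuation k z := by
  classical
  obtain ⟨m, e, he⟩ := Module.Finite.exists_fin (R := 𝓞 k) (M := 𝓞 K)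
  refine ⟨Finset.univ.sup fun j => v.valuation k (f (e j : K)), fun x z hz hx => ?_⟩
  have hzK : algebraMap k K z ≠ 0 := (map_ne_zero _).mpr hz
  obtain ⟨s, hs, c, hc⟩ := Groth.Agent.UnitNormLib.exists_mul_mem v (x / algebraMap k K z) fun W hW => by
    rw [map_div₀, div_le_one₀ (zero_lt_iff.mpr ((Valuation.ne_zero_iff _).mpr hzK))]
    exact hx W hW
  obtain ⟨r, hr⟩ := (Submodule.mem_span_range_iff_exists_fun _).mp (he ▸ Submodule.mem_top : c ∈ _)
  have hs0 : algebraMap (𝓞 k) k s ≠ 0 := (map_ne_zero_iff _ (IsFractionRing.injective (𝓞 k) k)).mpr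
    fun h => hs (h ▸ v.asIdeal.zero_mem)
  have hsum : f x = (z / algebraMap (𝓞 k) k s) * ∑ j, algebraMap (𝓞 k) k (r j) * f (e j : K) := by
    have h1 : (c : K) = ∑ j, algebraMap (𝓞 k) k (r j) • (e j : K) := by
      rw [← hr]; push_cast
      exact Finset.sum_congr rfl fun j _ => algebra_compatible_smul k (r j) (e j : K)
    have h2 : x = (z / algebraMap (𝓞 k) k s) • (c : K) := by
      rw [← hc, Algebra.smul_def, map_div₀, ← IsScalarTower.algebraMap_apply]
      have : algebraMap (𝓞 k) K s ≠ 0 := by
        rw [IsScalarTower.algebraMap_apply (𝓞 k) k K]; exact (map_ne_zero _).mpr hs0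
      field_simp
    rw [h2, map_smul, h1, map_sum, smul_eq_mul]
    simp only [map_smul, smul_eq_mul]
  rw [hsum, map_mul, map_div₀, v.valuation_eq_one_iff_notMem.mpr hs, div_one, mul_comm]
  refine mul_le_mul_left (Valuation.map_sum_le _ fun j _ => ?_) _
  rw [map_mul]
  exact (mul_le_of_le_one_left' (v.valuation_le_one _)).trans
    (Finset.le_sup (f := fun j => v.valuation k (f (e j : K))) (Finset.mem_univ j))

end Groth.Agent.SplitValueLib
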